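import Mathlib.RingTheory.Flat.FaithfullyFlat.Algebra
import Mathlib.RingTheory.Ideal.UFD
import Mathlib.RingTheory.Ideal.AssociatedPrime.Localization
import Mathlib.RingTheory.Ideal.Colon
import Mathlib.RingTheory.LocalRing.Basic
import Mathlib.RingTheory.UniqueFactorizationDomain.GCDMonoid

/-!
# Descent of principality and factoriality along faithfully flat local maps
-/

universe u

open scoped TensorProduct

namespace Groth.Agent.CAlgDescent

variable {R S : Type u} [CommRing R] [CommRing S] [Algebra R S] [Module.FaithfullyFlat R S]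

theorem isPrincipal_of_map [IsDomain S] [IsLocalRing S] (p : Ideal R)
    (hp : (p.map (algebraMap R S)).IsPrincipal) : p.IsPrincipal := by
  classical
  obtain ⟨b, hb⟩ := hp
  rcases eq_or_ne b 0 with rfl | hb0
  · refine ⟨0, ?_⟩
    rw [← Ideal.comap_map_eq_self_of_faithfullyFlat (B := S) p, hb]
    rw [Submodule.span_zero_singleton, Submodule.span_zero_singleton, ← RingHom.ker_eq_comap_bot]
    exact (RingHom.injective_iff_ker_eq_bot _).1 (FaithfulSMul.algebraMap_injective R S)
  replace hb : p.map (algebraMap R S) = Ideal.span {b} := hb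
  obtain ⟨x, hxp, c, hc, hu⟩ : ∃ x ∈ p, ∃ c, algebraMap R S x = c * b ∧ IsUnit c := by
    by_contra hne
    push Not at hne
    have : p.map (algebraMap R S) ≤ IsLocalRing.maximalIdeal S * Ideal.span {b} := by
      rw [Ideal.map_le_iff_le_comap]
      intro x hx
      have h1 : algebraMap R S x ∈ Ideal.span {b} := hb ▸ Ideal.mem_map_of_mem _ hx
      obtain ⟨c, hc⟩ := Ideal.mem_span_singleton'.1 h1
      rw [Ideal.mem_comap, ← hc]
      exact Ideal.mul_mem_mul (hne x hx c hc.symm) (Ideal.mem_span_singleton_self b)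
    have h2 : b ∈ IsLocalRing.maximalIdeal S * Ideal.span {b} := this (hb ▸ Ideal.mem_span_singleton_self b)
    obtain ⟨z, hz, hzb⟩ := Ideal.mem_mul_span_singleton.1 h2
    exact (IsLocalRing.maximalIdeal.isMaximal S).ne_top ((Ideal.eq_top_iff_one _).2
      (mul_right_cancel₀ hb0 (hzb.trans (one_mul b).symm) ▸ hz))
  refine ⟨x, le_antisymm (fun y hy => ?_) ((Ideal.span_singleton_le_iff_mem _).2 hxp)⟩
  show y ∈ Ideal.span {x}
  rw [← Ideal.comap_map_eq_self_of_faithfullyFlat (B := S) (Ideal.span {x}), Ideal.mem_comap, Ideal.map_span,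
    Set.image_singleton, hc]
  have h1 : algebraMap R S y ∈ Ideal.span {b} := hb ▸ Ideal.mem_map_of_mem _ hy
  rwa [Ideal.span_singleton_mul_left_unit hu]

theorem map_colon_singleton (a b : R) :
    ((Ideal.span {a}).colon {b}).map (algebraMap R S) =
      (Ideal.span {algebraMap R S a}).colon {algebraMap R S b} := by
  apply le_antisymm
  · rw [Ideal.map_le_iff_le_comap]
    intro r hr
    rw [Ideal.mem_comap, Submodule.mem_colon_singleton, smul_eq_mul, ← map_mul]
    rw [Submodule.mem_colon_singleton, smul_eq_mul, Ideal.mem_span_singleton] at hr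
    rw [Ideal.mem_span_singleton]
    exact map_dvd _ hr
  · intro z hz
    rw [Submodule.mem_colon_singleton, smul_eq_mul, Ideal.mem_span_singleton] at hz
    obtain ⟨w, hw⟩ := hz
    -- `mul b : R → R/aR`
    let f : R →ₗ[R] R ⧸ Ideal.span {a} := LinearMap.toSpanSingleton R _ (Ideal.Quotient.mk _ b)
    have hker : LinearMap.ker f = (Ideal.span {a}).colon {b} := by
      ext r
      rw [LinearMap.mem_ker, Submodule.mem_colon_singleton, smul_eq_mul, ← Ideal.Quotient.eq_zero_iff_mem, map_mul]
      rfl
    have hex : Function.Exact (((Ideal.span {a}).colon {b} : Ideal R).subtype.lTensor S) (f.lTensor S) :=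
      Module.Flat.lTensor_exact S (fun r => by
        rw [← LinearMap.mem_ker, hker]
        exact ⟨fun h => ⟨⟨r, h⟩, rfl⟩, by rintro ⟨x, rfl⟩; exact x.2⟩)
    have h0 : f.lTensor S (z ⊗ₜ 1) = 0 := by
      rw [LinearMap.lTensor_tmul, show f 1 = Ideal.Quotient.mk _ b from one_smul _ _,
        show Ideal.Quotient.mk (Ideal.span {a}) b = b • Ideal.Quotient.mk _ 1 by
          rw [← Ideal.Quotient.algebraMap_eq, Algebra.smul_def, map_one, mul_one],
        ← TensorProduct.smul_tmul, Algebra.smul_def, mul_comm, hw, ← Algebra.smul_def, TensorProduct.smul_tmul]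
      rw [← Ideal.Quotient.algebraMap_eq, Algebra.smul_def, map_one, mul_one, Ideal.Quotient.algebraMap_eq,
        Ideal.Quotient.eq_zero_iff_mem.2 (Ideal.mem_span_singleton_self a), TensorProduct.tmul_zero]
    obtain ⟨t, ht⟩ := (hex _).1 h0
    have key : ∀ t, TensorProduct.rid R S (((Ideal.span {a}).colon {b} : Ideal R).subtype.lTensor S t) ∈
        ((Ideal.span {a}).colon {b} : Ideal R).map (algebraMap R S) := by
      intro t
      induction t using TensorProduct.induction_on with
      | zero => simp
      | tmul s i =>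
        rw [LinearMap.lTensor_tmul, TensorProduct.rid_tmul, Algebra.smul_def]
        exact Ideal.mul_mem_right _ _ (Ideal.mem_map_of_mem _ i.2)
      | add u v hu hv => rw [map_add, map_add]; exact add_mem hu hv
    simpa [ht] using key t

theorem ufd_of_faithfullyFlat [IsDomain R] [IsDomain S] [IsNoetherianRing R] [IsLocalRing S]
    [UniqueFactorizationMonoid S] : UniqueFactorizationMonoid R := by
  classical
  refine UniqueFactorizationMonoid.of_forall_isPrincipal_of_height_eq_one fun p hp h1 => ?_
  obtain ⟨a, hap, ha⟩ := Submodule.exists_mem_ne_zero_of_ne_bot (p.ne_bot_of_height_eq_one h1)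
  have hmin : p ∈ (Ideal.span {a}).minimalPrimes := by
    obtain ⟨q, hq, hqp⟩ := Ideal.exists_minimalPrimes_le ((Ideal.span_singleton_le_iff_mem p).2 hap)
    have := hq.isPrime
    rcases hqp.eq_or_lt with rfl | hlt
    · exact hq
    · exfalso
      have hlt' := Ideal.height_strict_mono_of_isPrime hlt
      rw [h1, ENat.lt_one_iff_eq_zero, Ideal.height_eq_zero_iff,
        IsDomain.minimalPrimes_eq_singleton_bot, Set.mem_singleton_iff] at hlt'
      exact ha (by simpa [hlt'] using hq.le (Ideal.mem_span_singleton_self a))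
  rw [← Ideal.annihilator_quotient (I := Ideal.span {a})] at hmin
  have hass := Module.associatedPrimes.minimalPrimes_annihilator_subset_associatedPrimes R (R ⧸ Ideal.span {a}) hmin
  obtain ⟨-, x, hx⟩ := isAssociatedPrime_iff.1 hass
  obtain ⟨b, rfl⟩ := Ideal.Quotient.mk_surjective x
  have hpc : p = (Ideal.span {a}).colon {b} := by
    rw [hx]
    ext r
    rw [Submodule.mem_colon_singleton, Submodule.mem_colon_singleton, Submodule.mem_bot,
      ← Ideal.Quotient.eq_zero_iff_mem, smul_eq_mul, map_mul]
    rfl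
  apply isPrincipal_of_map (S := S)
  rw [hpc, map_colon_singleton]
  let _ := UniqueFactorizationMonoid.toGCDMonoid S
  obtain ⟨a', b', hab⟩ : ∃ a' b', algebraMap R S a = gcd (algebraMap R S a) (algebraMap R S b) * a' ∧
      algebraMap R S b = gcd (algebraMap R S a) (algebraMap R S b) * b' ∧ IsUnit (gcd a' b') :=
    extract_gcd _ _
  obtain ⟨h2, h3, h4⟩ := hab
  refine ⟨a', ?_⟩
  have hg : gcd (algebraMap R S a) (algebraMap R S b) ≠ 0 := fun h0 =>
    ha (FaithfulSMul.algebraMap_injective R S (by rw [h2, h0, zero_mul, map_zero]))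
  ext r
  rw [Submodule.mem_colon_singleton, smul_eq_mul]
  generalize gcd (algebraMap R S a) (algebraMap R S b) = g at h2 h3 hg
  show r * algebraMap R S b ∈ Ideal.span {algebraMap R S a} ↔ r ∈ Ideal.span {a'}
  rw [Ideal.mem_span_singleton, Ideal.mem_span_singleton]
  conv_lhs => rw [h2, h3, mul_left_comm, mul_dvd_mul_iff_left hg]
  exact ⟨(gcd_isUnit_iff_isRelPrime.1 h4).dvd_of_dvd_mul_right, fun h => h.mul_right b'⟩

end Groth.Agent.CAlgDescent
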